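import Mathlib
import Cfsg.Prelude.Def_TwoFusion
import Cfsg.Agent.Lib.GoldschmidtFusion
import Cfsg.Agent.FastGrp
import Cfsg.Agent.Prune
set_option linter.all false
prune_inst 0x7f00000000000000000000000000000000000000000000000000000000000000000000000000000000000000000000000000000000000000000000000000000000000000000000000000000000000000003fffffffffffffffffffffffffffbeffbdffffffff
open scoped Cfsg.Agent.FastGrp

/-!
# Essential subgroups

Refinement of the centric form of the Alperin-Goldschmidt theorem: it suffices to use the
subgroups `X < P` that are centric, fully normalised and such that `N_G(X)` is not generated by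
`C_G(X)` and the `N_G(X) ∩ N_G(Q)`, `X < Q ≤ P`. Criterion for strong closure.
-/

set_option autoImplicit false

namespace Cfsg.Agent.ClassTwoFusion.Ess

open Subgroup Cfsg.Agent.Lib.GoldschmidtFusion

variable {G : Type*} [Group G]

/-- the subgroup generated by `C_G(X)` and the `N_G(X) ∩ N_G(Q)`, `X < Q ≤ P` -/
def starSub (P X : Subgroup G) : Subgroup G :=
  centralizer (X : Set G) ⊔
    ⨆ Q : {Q : Subgroup G // X < Q ∧ Q ≤ P}, (normalizer (X : Set G) ⊓ normalizer ((Q : Subgroup G) : Set G))

theorem centralizer_le_starSub (P X : Subgroup G) : centralizer (X : Set G) ≤ starSub P X :=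
  le_sup_left

theorem inf_normalizer_le_starSub {P X Q : Subgroup G} (h1 : X < Q) (h2 : Q ≤ P) :
    normalizer (X : Set G) ⊓ normalizer (Q : Set G) ≤ starSub P X :=
  le_trans (le_iSup (fun Q : {Q : Subgroup G // X < Q ∧ Q ≤ P} =>
    (normalizer (X : Set G) ⊓ normalizer ((Q : Subgroup G) : Set G))) ⟨Q, h1, h2⟩) le_sup_right

theorem starSub_le_normalizer (P X : Subgroup G) : starSub P X ≤ normalizer (X : Set G) :=
  sup_le (centralizer_le_normalizer _) (iSup_le fun _ => inf_le_left)

/-- essential subgroups -/
structure IsEss (p : ℕ) (P X : Subgroup G) : Prop where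
  lt : X < P
  centric : centralizer (X : Set G) ⊓ P ≤ X
  fully : ¬ p ∣ (P ⊓ normalizer (X : Set G)).relIndex (normalizer (X : Set G))
  ess : ¬ normalizer (X : Set G) ≤ starSub P X

/-- **Fusion theorem with essential subgroups.** -/
theorem gen_ess [Finite G] {p : ℕ} [hp : Fact p.Prime] (P : Sylow p G)
    {A : Subgroup G} (hA : A ≤ P) {g : G} (hg : A.map (MulAut.conj g).toMonoidHom ≤ P) :
    Gen (P : Subgroup G) (fun X => X = (P : Subgroup G) ∨ IsEss p (P : Subgroup G) X) A g := by
  set F : Subgroup G → Prop := fun X => X = (P : Subgroup G) ∨ IsEss p (P : Subgroup G) X with hF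
  set F' : Subgroup G → Prop := fun X => F X ∨ (X < P ∧ normalizer (X : Set G) ≤ starSub P X) with hF'
  -- the weak form
  have weak : ∀ A : Subgroup G, A ≤ P → ∀ g : G, A.map (MulAut.conj g).toMonoidHom ≤ P →
      Gen (P : Subgroup G) F' A g := by
    intro A hA g hg
    refine gen_of_conj P F' (Or.inl (Or.inl rfl)) ?_ hA hg
    intro X hX h1 h2 _
    by_cases h3 : normalizer (X : Set G) ≤ starSub P X
    · exact Or.inr ⟨hX, h3⟩
    · exact Or.inl (Or.inr ⟨hX, h2, h1, h3⟩)
  have key : ∀ k : ℕ, ∀ A : Subgroup G, ∀ g : G, Gen (P : Subgroup G) F' A g →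
      Nat.card P ≤ Nat.card A + k → Gen (P : Subgroup G) F A g := by
    intro k
    induction k using Nat.strong_induction_on with
    | _ k ih =>
      intro A g hgen
      induction hgen with
      | cent hA hc => intro _; exact Gen.cent hA hc
      | @base A X g hX hFX hAX hg =>
        intro hcard
        rcases hFX with hFX | ⟨hXP, hXs⟩
        · exact Gen.base hX hFX hAX hg
        · refine Gen.mono ?_ hAX
          -- the subgroup of good elements of the normaliser
          let K : Subgroup G :=
            { carrier := {g | g ∈ normalizer (X : Set G) ∧ Gen (P : Subgroup G) F X g}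
              one_mem' := ⟨one_mem _, Gen.cent hX (one_mem _)⟩
              mul_mem' := by
                rintro a b ⟨ha, ha'⟩ ⟨hb, hb'⟩
                refine ⟨mul_mem ha hb, Gen.mul hb' ?_⟩
                rw [mem_normalizer_iff_map_conj.1 hb]
                exact ha'
              inv_mem' := by
                rintro a ⟨ha, ha'⟩
                refine ⟨inv_mem ha, ?_⟩
                have := ha'.symm
                rwa [mem_normalizer_iff_map_conj.1 ha] at this }
          have hK : starSub P X ≤ K := by
            refine sup_le ?_ (iSup_le ?_)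
            · intro c hc
              exact ⟨centralizer_le_normalizer _ hc, Gen.cent hX hc⟩
            · rintro ⟨Q, hXQ, hQP⟩ x ⟨hx1, hx2⟩
              refine ⟨hx1, ?_⟩
              have hcQ : Nat.card X < Nat.card Q := by
                have := Set.ncard_lt_ncard (s := (X : Set G)) (t := (Q : Set G)) (by exact_mod_cast hXQ)
                  (Set.toFinite _)
                exact this
              have hcA : Nat.card A ≤ Nat.card X := Nat.card_le_card_of_injective _
                (inclusion_injective hAX)
              have hcX : Nat.card X < Nat.card P := by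
                have := Set.ncard_lt_ncard (s := (X : Set G)) (t := ((P : Subgroup G) : Set G))
                  (by exact_mod_cast hXP) (Set.toFinite _)
                exact this
              have hmap : Q.map (MulAut.conj x).toMonoidHom ≤ P := by
                rw [mem_normalizer_iff_map_conj.1 hx2]; exact hQP
              have := ih (k - 1) (by omega) Q x (weak Q hQP x hmap) (by omega)
              exact this.mono hXQ.le
          exact (hK (hXs hg)).2
      | @mul A g h _ _ ih1 ih2 =>
        intro hcard
        refine Gen.mul (ih1 hcard) (ih2 ?_)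
        rw [card_map_conj]; exact hcard
  exact key (Nat.card P) A g (weak A hA g hg) (by omega)

/-- **Criterion for strong closure.** -/
theorem isStronglyClosed [Finite G] {p : ℕ} [hp : Fact p.Prime] (P : Sylow p G) (A : Subgroup G)
    (hAP : A ≤ P) (hN : ∀ g ∈ normalizer ((P : Subgroup G) : Set G), ∀ a ∈ A, g * a * g⁻¹ ∈ A)
    (hE : ∀ X : Subgroup G, IsEss p (P : Subgroup G) X → ∀ g ∈ normalizer (X : Set G),
      ∀ a ∈ A, a ∈ X → g * a * g⁻¹ ∈ A) : Cfsg.IsStronglyClosed A (P : Subgroup G) := by
  refine ⟨hAP, fun x hx g hg => ?_⟩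
  have h1 := gen_ess P (A := zpowers x) (by rw [zpowers_le]; exact hAP hx)
    (zpowers_map_conj_le (P := (P : Subgroup G)) hg)
  have key : ∀ X : Subgroup G, (X = (P : Subgroup G) ∨ IsEss p (P : Subgroup G) X) →
      ∀ g ∈ normalizer (X : Set G), ∀ a ∈ A, a ∈ X → g * a * g⁻¹ ∈ A := by
    rintro X (rfl | hX) g hg a ha haX
    · exact hN g hg a ha
    · exact hE X hX g hg a ha haX
  have h2 := h1.invariant (fun x => x ∈ A) (fun X _ hX g hg x hx => by
    apply propext
    constructor
    · intro h3
      have h4 := key X hX g⁻¹ (inv_mem hg) _ h3 ((mem_normalizer_iff.1 hg x).1 hx)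
      have e : g⁻¹ * (g * x * g⁻¹) * g⁻¹⁻¹ = x := by group
      rwa [e] at h4
    · intro h3
      exact key X hX g hg x h3 hx) x (mem_zpowers x)
  exact h2.symm ▸ hx

end Cfsg.Agent.ClassTwoFusion.Ess
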